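import Groth.Agent.L22.CurveDeg.Det.Alg
import Groth.Agent.L17.PullBasis
import Groth.Agent.L18.GenLocus
import Groth.Agent.L20.ModStalk
import Groth.Prelude.Def_ExtPow2

/-!
Frames of top exterior powers.
-/

set_option autoImplicit false
set_option backward.isDefEq.respectTransparency false
universe u

open CategoryTheory CategoryTheory.Limits AlgebraicGeometry TopologicalSpace Opposite

noncomputable section

namespace Groth.L22.CurveDeg.Det

open Groth.L18.Frame (rs ro rs_rs rs_self rs_smul ro_ro IsFrame pull pull_rs pull_smul)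
open Groth.L20.ModStalk (germ_smul germ_rs)

variable {X : Scheme.{u}} {n : ℕ} {E L : X.Modules}

/-- Sections forming a basis on every smaller open. -/
def IsBasisS (E : X.Modules) {U : X.Opens} (e : Fin n → Γ(E, U)) : Prop :=
  ∀ (V : X.Opens) (h : V ≤ U), Function.Bijective fun r : Fin n → Γ(X, V) => ∑ j, r j • rs E h (e j)

theorem IsBasisS.mono {U U' : X.Opens} {e : Fin n → Γ(E, U)} (he : IsBasisS E e) (h : U' ≤ U) :
    IsBasisS E fun j => rs E h (e j) := fun V h' => by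
  simp only [rs_rs]
  exact he V _

theorem IsBasisS.stalk {U : X.Opens} {e : Fin n → Γ(E, U)} (he : IsBasisS E e) (x : X) (hx : x ∈ U) :
    Function.Bijective fun a : Fin n → X.presheaf.stalk x => ∑ j, a j • E.presheaf.germ U x hx (e j) :=
  Groth.L17.PullBasis.bijective_stalk E e (fun V g => he V g.le) x hx

theorem exists_affine_basis (hE : FlatMod.IsFinLocFreeOfRank n E) (x : X) (W : X.Opens) (hxW : x ∈ W) :
    ∃ (U : X.affineOpens) (e : Fin n → Γ(E, U.1)), x ∈ U.1 ∧ U.1 ≤ W ∧ IsBasisS E e := by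
  obtain ⟨U₀, hx, ⟨i⟩⟩ := hE x
  obtain ⟨s, hs⟩ := Groth.L17.FinLocBases.exists_isBasis E i
  have hU : U₀.ι ''ᵁ ⊤ = U₀ := (Scheme.Hom.image_top_eq_opensRange U₀.ι).trans U₀.opensRange_ι
  obtain ⟨_, ⟨U, hUa, rfl⟩, hxU, hUW⟩ := X.isBasis_affineOpens.exists_subset_of_mem_open
    (show x ∈ U₀.ι ''ᵁ ⊤ ⊓ W from ⟨hU.symm ▸ hx, hxW⟩) (U₀.ι ''ᵁ ⊤ ⊓ W).2
  have hle : U ≤ U₀.ι ''ᵁ ⊤ := fun y hy => (hUW hy).1
  have hs' : IsBasisS E s := fun V h => hs V (homOfLE h)
  exact ⟨⟨U, hUa⟩, _, hxU, fun y hy => (hUW hy).2, hs'.mono hle⟩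

variable (φ : ∀ U : X.affineOpens,
  (L.val.obj (op U.1)) ≃ₗ[Γ(X, U.1)] ↥(⋀[Γ(X, U.1)]^n (E.val.obj (op U.1))))

/-- The product of a family of sections. -/
def wedge (U : X.affineOpens) (e : Fin n → Γ(E, U.1)) : Γ(L, U.1) :=
  (φ U).symm (exteriorPower.ιMulti Γ(X, U.1) n (M := E.val.obj (op U.1)) e)

theorem wedge_comb (U : X.affineOpens) (e : Fin n → Γ(E, U.1)) (S : Matrix (Fin n) (Fin n) Γ(X, U.1)) :
    wedge φ U (fun i => ∑ j, S i j • e j) = S.det • wedge φ U e :=
  (congrArg (φ U).symm (wedge_linearCombination (M := E.val.obj (op U.1)) S e)).trans ((φ U).symm.map_smul _ _)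

theorem bijective_smul_wedge' (U : X.affineOpens) (e : Fin n → Γ(E, U.1)) (he : IsBasisS E e) :
    Function.Bijective fun a : Γ(X, U.1) => a • wedge φ U e := by
  have h0 : Function.Bijective fun r : Fin n → Γ(X, U.1) => ∑ j, r j • e j := by
    have := he U.1 le_rfl
    simpa only [rs_self] using this
  have h := (φ U).symm.bijective.comp (bijective_smul_wedge (M := E.val.obj (op U.1)) e h0)
  refine (congrArg Function.Bijective (funext fun a => ?_)).mp h
  exact (φ U).symm.map_smul _ _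

variable (hφ : ∀ (U V : X.affineOpens) (h : V.1 ≤ U.1) (e : Fin n → E.val.obj (op U.1)),
      L.val.map (homOfLE h).op ((φ U).symm (exteriorPower.ιMulti _ n e)) =
        (φ V).symm (exteriorPower.ιMulti _ n (fun j => E.val.map (homOfLE h).op (e j))))

include hφ

theorem rs_wedge (U V : X.affineOpens) (h : V.1 ≤ U.1) (e : Fin n → Γ(E, U.1)) :
    rs L h (wedge φ U e) = wedge φ V fun j => rs E h (e j) :=
  hφ U V h e

theorem isFrame_wedge (U : X.affineOpens) (e : Fin n → Γ(E, U.1)) (he : IsBasisS E e) :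
    IsFrame L U.1 (wedge φ U e) := by
  have hst : ∀ (y : X) (hy : y ∈ U.1), Function.Bijective
      fun a : Fin 1 → X.presheaf.stalk y => ∑ j, a j • L.presheaf.germ U.1 y hy (wedge φ U e) := by
    intro y hy
    have haff : ∀ (O : X.Opens), y ∈ O → ∃ V : X.affineOpens, y ∈ V.1 ∧ V.1 ≤ O ∧ V.1 ≤ U.1 := fun O hyO => by
      obtain ⟨_, ⟨V, hVa, rfl⟩, hyV, hVU⟩ := X.isBasis_affineOpens.exists_subset_of_mem_open
        (show y ∈ O ⊓ U.1 from ⟨hyO, hy⟩) (O ⊓ U.1).2
      exact ⟨⟨V, hVa⟩, hyV, fun z hz => (hVU hz).1, fun z hz => (hVU hz).2⟩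
    have hb : Function.Bijective fun a : X.presheaf.stalk y => a • L.presheaf.germ U.1 y hy (wedge φ U e) := by
      refine ⟨fun a b hab => ?_, fun p => ?_⟩
      · obtain ⟨Oa, hOa, a, rfl⟩ := TopCat.Presheaf.exists_germ_eq X.presheaf a
        obtain ⟨Ob, hOb, b, rfl⟩ := TopCat.Presheaf.exists_germ_eq X.presheaf b
        obtain ⟨V, hyV, hVO, hVU⟩ := haff (Oa ⊓ Ob) ⟨hOa, hOb⟩
        let a' := ro (hVO.trans inf_le_left) a
        let b' := ro (hVO.trans inf_le_right) b
        let w := rs L hVU (wedge φ U e)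
        have ea : X.presheaf.germ V.1 y hyV a' = X.presheaf.germ Oa y hOa a := X.presheaf.germ_res_apply _ y hyV a
        have eb : X.presheaf.germ V.1 y hyV b' = X.presheaf.germ Ob y hOb b := X.presheaf.germ_res_apply _ y hyV b
        have h1 : L.presheaf.germ V.1 y hyV (a' • w) = L.presheaf.germ V.1 y hyV (b' • w) := by
          rw [germ_smul, germ_smul, ea, eb, germ_rs]
          exact hab
        obtain ⟨O, hyO, i1, i2, h12⟩ := L.presheaf.germ_eq y hyV hyV _ _ h1
        obtain ⟨V', hyV', hV'O, -⟩ := haff O hyO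
        have hV'V : V'.1 ≤ V.1 := hV'O.trans i1.le
        have h3 : rs L hV'V (a' • w) = rs L hV'V (b' • w) := by
          have h12' : rs L i1.le (a' • w) = rs L i2.le (b' • w) := h12
          have := congrArg (rs L hV'O) h12'
          simpa only [rs_rs] using this
        rw [rs_smul, rs_smul, rs_rs, rs_wedge φ hφ U V' (hV'V.trans hVU)] at h3
        have h4 := (bijective_smul_wedge' φ V' _ (he.mono (hV'V.trans hVU))).1 h3
        rw [← ea, ← eb]
        have e1 : X.presheaf.germ V'.1 y hyV' (ro hV'V a') = X.presheaf.germ V.1 y hyV a' :=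
          X.presheaf.germ_res_apply _ y hyV' a'
        have e2 : X.presheaf.germ V'.1 y hyV' (ro hV'V b') = X.presheaf.germ V.1 y hyV b' :=
          X.presheaf.germ_res_apply _ y hyV' b'
        rw [← e1, ← e2, h4]
      · obtain ⟨O, hyO, m, rfl⟩ := Groth.L00.StalkTensor.exists_germ (Groth.L00.Tensor.pre L) y p
        obtain ⟨V, hyV, hVO, hVU⟩ := haff O hyO
        obtain ⟨c, hc⟩ := (bijective_smul_wedge' φ V _ (he.mono hVU)).2 (rs L hVO (show Γ(L, O) from m))
        simp only [← rs_wedge φ hφ U V hVU] at hc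
        refine ⟨X.presheaf.germ V.1 y hyV c, ?_⟩
        show _ • _ = L.presheaf.germ O y hyO m
        rw [← germ_rs (M := L) hVO hyV, ← hc, germ_smul, germ_rs]
    refine (congrArg Function.Bijective (funext fun a => ?_)).mp (hb.comp (Equiv.funUnique (Fin 1) _).bijective)
    simp
  have hbs := Groth.L17.PullBasis.isBasis_of_stalk L (fun _ : Fin 1 => wedge φ U e) hst
  intro V h
  refine (congrArg Function.Bijective (funext fun a => ?_)).mp
    ((hbs V (homOfLE h)).comp (Equiv.funUnique (Fin 1) Γ(X, V)).symm.bijective)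
  simp only [Function.comp_apply, Fin.sum_univ_one]
  rfl

theorem isInvertible_of_extPow (hE : FlatMod.IsFinLocFreeOfRank n E) : PicF.IsInvertible L :=
  Groth.L18.GenLoc.isInvertible_of_frames fun x => by
    obtain ⟨U, e, hx, -, he⟩ := exists_affine_basis hE x ⊤ trivial
    exact ⟨U.1, _, hx, isFrame_wedge φ hφ U e he⟩

omit hφ in
theorem isBasisS_pullback {Z : Scheme.{u}} (f : Z ⟶ X) {U : X.Opens} {e : Fin n → Γ(E, U)} (he : IsBasisS E e) :
    ∀ (z : Z) (hz : z ∈ f ⁻¹ᵁ U), Function.Bijective fun a : Fin n → Z.presheaf.stalk z =>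
      ∑ j, a j • ((Scheme.Modules.pullback f).obj E).presheaf.germ (f ⁻¹ᵁ U) z hz (pull f E U (e j)) :=
  fun z hz => Groth.L17.PullBasis.bijective_stalk _ _
    (Groth.L17.PullBasis.isBasis_pullback f E e fun V g => he V g.le) z hz

/-- The determinant relation after pulling back. -/
theorem det_pullback {Z : Scheme.{u}} (f : Z ⟶ X) (U V : X.affineOpens) (s : Fin n → Γ(E, U.1))
    (e : Fin n → Γ(E, V.1)) (he : IsBasisS E e) (z : Z) (hzU : z ∈ f ⁻¹ᵁ U.1) (hzV : z ∈ f ⁻¹ᵁ V.1)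
    (S : Matrix (Fin n) (Fin n) (Z.presheaf.stalk z))
    (hS : ∀ i, ((Scheme.Modules.pullback f).obj E).presheaf.germ (f ⁻¹ᵁ U.1) z hzU (pull f E U.1 (s i)) =
      ∑ j, S i j • ((Scheme.Modules.pullback f).obj E).presheaf.germ (f ⁻¹ᵁ V.1) z hzV (pull f E V.1 (e j))) :
    ((Scheme.Modules.pullback f).obj L).presheaf.germ (f ⁻¹ᵁ U.1) z hzU (pull f L U.1 (wedge φ U s)) =
      S.det • ((Scheme.Modules.pullback f).obj L).presheaf.germ (f ⁻¹ᵁ V.1) z hzV (pull f L V.1 (wedge φ V e)) := by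
  obtain ⟨_, ⟨W, hWa, rfl⟩, hyW, hWle⟩ := X.isBasis_affineOpens.exists_subset_of_mem_open
    (show f z ∈ U.1 ⊓ V.1 from ⟨hzU, hzV⟩) (U.1 ⊓ V.1).2
  let W' : X.affineOpens := ⟨W, hWa⟩
  have hWU : W ≤ U.1 := fun y hy => (hWle hy).1
  have hWV : W ≤ V.1 := fun y hy => (hWle hy).2
  have hzW : z ∈ f ⁻¹ᵁ W := hyW
  choose T hT using fun i => (he W hWV).2 (rs E hWU (s i))
  let g : Γ(X, W) →+* Z.presheaf.stalk z := (Z.presheaf.germ (f ⁻¹ᵁ W) z hzW).hom.comp (f.app W).hom
  have gS : ∀ i, ((Scheme.Modules.pullback f).obj E).presheaf.germ (f ⁻¹ᵁ W) z hzW (pull f E W (rs E hWU (s i))) =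
      ∑ j, g (T i j) • ((Scheme.Modules.pullback f).obj E).presheaf.germ (f ⁻¹ᵁ W) z hzW
        (pull f E W (rs E hWV (e j))) := fun i => by
    rw [← hT i]
    simp only [pull]
    rw [map_sum, map_sum]
    refine Finset.sum_congr rfl fun j _ => ?_
    exact (congrArg _ (pull_smul f E (T i j) _)).trans (germ_smul _ _ _ _)
  have hST : S = Matrix.of fun i j => g (T i j) := by
    refine funext fun i => (isBasisS_pullback f he z hzV).1 ?_
    have h1 := gS i
    simp only [← pull_rs, germ_rs] at h1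
    exact (hS i).symm.trans h1
  have hw : rs L hWU (wedge φ U s) = (Matrix.of T).det • rs L hWV (wedge φ V e) := by
    rw [rs_wedge φ hφ U W' hWU, rs_wedge φ hφ V W' hWV, ← wedge_comb φ W']
    exact congrArg _ (funext fun i => (hT i).symm)
  have h2 : ((Scheme.Modules.pullback f).obj L).presheaf.germ (f ⁻¹ᵁ W) z hzW (pull f L W (rs L hWU (wedge φ U s))) =
      g (Matrix.of T).det • ((Scheme.Modules.pullback f).obj L).presheaf.germ (f ⁻¹ᵁ W) z hzW
        (pull f L W (rs L hWV (wedge φ V e))) := by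
    rw [hw, pull_smul, germ_smul]
    rfl
  rw [← pull_rs, ← pull_rs, germ_rs, germ_rs] at h2
  rw [h2, hST, RingHom.map_det]
  rfl

end Groth.L22.CurveDeg.Det
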