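import Groth.Agent.L21.RR.Twist
import Groth.Agent.L22.CurveAmple.Lift

/-!
Stalks of twists by powers of an invertible module with a frame.
-/

set_option autoImplicit false
set_option backward.isDefEq.respectTransparency false
universe u

open CategoryTheory CategoryTheory.Limits AlgebraicGeometry TopologicalSpace Opposite TensorProduct

noncomputable section

namespace Groth.L22.CurveDeg.Det

open Groth.L18.Frame (rs ro IsFrame)
open Groth.L18.GenLoc Groth.L18.Ample
open Groth.L21.RR (bijective_germ_frame)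

variable {X : Scheme.{u}}

/-- Tensoring with a frame on stalks. -/
def tensFrameEquiv (N P : X.Modules) {W : X.Opens} {p : Γ(P, W)} (hp : IsFrame P W p) {x : X} (hx : x ∈ W) :
    N.presheaf.stalk x ≃ₗ[X.presheaf.stalk x] (CohB1.tensorMod N P).presheaf.stalk x :=
  (TensorProduct.rid (X.presheaf.stalk x) (N.presheaf.stalk x)).symm ≪≫ₗ
    TensorProduct.congr (LinearEquiv.refl (X.presheaf.stalk x) (N.presheaf.stalk x))
      (LinearEquiv.ofBijective (LinearMap.toSpanSingleton (X.presheaf.stalk x) (P.presheaf.stalk x)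
        (P.presheaf.germ W x hx p)) (bijective_germ_frame hp hx)) ≪≫ₗ
    (Groth.L00.Stk.τ x N P).toLinearEquiv

theorem tensFrameEquiv_germ (N P : X.Modules) {W : X.Opens} {p : Γ(P, W)} (hp : IsFrame P W p) {x : X}
    (hx : x ∈ W) (e : Γ(N, W)) :
    tensFrameEquiv N P hp hx (N.presheaf.germ W x hx e) =
      (CohB1.tensorMod N P).presheaf.germ W x hx (tens N P W e p) := by
  show Groth.L00.Stk.τfun x N P
    (N.presheaf.germ W x hx e ⊗ₜ ((1 : X.presheaf.stalk x) • P.presheaf.germ W x hx p)) = _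
  rw [one_smul]
  exact Groth.L00.Stk.τfun_tmul x N P hx e p

/-- `E_x ≅ (E ⊗ P^k)_x` by the frame. -/
def twEquiv (E P : X.Modules) {W : X.Opens} {p : Γ(P, W)} (hp : IsFrame P W p) {x : X} (hx : x ∈ W) :
    ∀ k : ℕ, E.presheaf.stalk x ≃ₗ[X.presheaf.stalk x] (tw E P k).presheaf.stalk x
  | 0 => LinearEquiv.refl _ _
  | k + 1 => twEquiv E P hp hx k ≪≫ₗ tensFrameEquiv (tw E P k) P hp hx

theorem twEquiv_germ (E P : X.Modules) {W : X.Opens} {p : Γ(P, W)} (hp : IsFrame P W p) {x : X} (hx : x ∈ W)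
    (e : Γ(E, W)) : ∀ k : ℕ, twEquiv E P hp hx k (E.presheaf.germ W x hx e) =
      (tw E P k).presheaf.germ W x hx (fr e p k)
  | 0 => rfl
  | k + 1 => by
    show tensFrameEquiv (tw E P k) P hp hx (twEquiv E P hp hx k _) = _
    rw [twEquiv_germ E P hp hx e k]
    exact tensFrameEquiv_germ (tw E P k) P hp hx _

/-- `fr · p k` is additive. -/
theorem fr_sum {N L : X.Modules} {W : X.Opens} (p : Γ(L, W)) {ι : Type*} (s : Finset ι) (e : ι → Γ(N, W))
    (k : ℕ) {x : X} (hx : x ∈ W) (hp : IsFrame L W p) :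
    (tw N L k).presheaf.germ W x hx (fr (∑ i ∈ s, e i) p k) =
      ∑ i ∈ s, (tw N L k).presheaf.germ W x hx (fr (e i) p k) := by
  simp only [← twEquiv_germ N L hp hx, map_sum]

end Groth.L22.CurveDeg.Det
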