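import Groth.Agent.L22.CurveDeg.Det.Cokernel
import Groth.Agent.L22.CurveDeg.Det.Twist
import Groth.Agent.L18.ExtendQCoh
import Groth.Agent.L18.AmpleComp
import Groth.Agent.L19.ProjBdl.Loci
import Groth.Agent.L21.Curve.SmoothDescent
import Groth.Agent.S1551

/-!
The degree of a locally free module on an integral curve is the degree of its determinant.
-/

set_option autoImplicit false
set_option backward.isDefEq.respectTransparency false
set_option linter.style.haveILetI false
universe u

open CategoryTheory CategoryTheory.Limits AlgebraicGeometry TopologicalSpace Opposite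

noncomputable section

namespace Groth.L22.CurveDeg.Det

open Groth.L18.Frame (rs ro rs_rs rs_self rs_smul IsFrame)
open Groth.L18.GenLoc Groth.L18.Ample
open Groth.L16.CohSupport (len len_eq_zero_iff len_congr)
open Groth.L21.RR (st one SuppClosed bijective_germ_frame)
open Groth.L20.ModStalk (germ_smul germ_rs)

variable {X : Scheme.{u}}

theorem exists_extend_ge [CompactSpace X] [QuasiSeparatedSpace X] {N P : X.Modules} [Coh.IsQCoh N]
    (hP : PicF.IsInvertible P) (φ : Coh.structureModule X ⟶ P) (m : Γ(N, CohB1.genLocus P φ)) :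
    ∃ k₀ : ℕ, ∀ K, k₀ ≤ K → ∃ t : Γ(tw N P K, ⊤),
      rs (tw N P K) le_top t = it (secOf φ) (CohB1.genLocus P φ) m K := by
  obtain ⟨k₀, t, ht⟩ := exists_extend_qcoh hP φ m
  refine ⟨k₀, fun K hK => ?_⟩
  obtain ⟨d, rfl⟩ := Nat.le.dest hK
  exact ⟨up N (secOf φ) ⊤ d t, by rw [up_rs, ht, up_it]⟩

theorem st_homOfSection_one {M : X.Modules} (t : Γ(M, ⊤)) (x : X) :
    st (Groth.L16.homOfSection M t) x (one X x) = M.presheaf.germ ⊤ x trivial t := by
  rw [Groth.L21.RR.st_one _ x (W := ⊤) trivial, Groth.L21.RR.app_homOfSection_one, rs_self]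

variable [IsIntegral X] [IsLocallyNoetherian X]

theorem germ_ne_zero {U : X.Opens} {x : X} (hx : x ∈ U) {a : Γ(X, U)} (hη : genericPoint X ∈ U)
    (ha : X.presheaf.germ U (genericPoint X) hη a ≠ 0) : X.presheaf.germ U x hx a ≠ 0 := fun h0 =>
  ha (by rw [germ_injective_of_isIntegral X x hx (h0.trans (map_zero _).symm), map_zero])

theorem frame_facts (x : X) [Ring.KrullDimLE 1 (X.presheaf.stalk x)] {M : X.Modules}
    (t : Coh.structureModule X ⟶ M) {V : X.Opens} (hx : x ∈ V) {f : Γ(M, V)} (hf : IsFrame M V f)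
    (c : X.presheaf.stalk x) (hc : st t x (one X x) = c • M.presheaf.germ V x hx f) (hc0 : c ≠ 0) :
    Function.Injective (st (desc (fun _ : Fin 1 => t)) x) ∧
      len x (cokernel (desc (fun _ : Fin 1 => t))) = Ring.ord (X.presheaf.stalk x) c := by
  have h := desc_facts x (fun _ : Fin 1 => t)
    ((LinearEquiv.funUnique (Fin 1) (X.presheaf.stalk x) (X.presheaf.stalk x)) ≪≫ₗ
      LinearEquiv.ofBijective (LinearMap.toSpanSingleton (X.presheaf.stalk x) (M.presheaf.stalk x)
        (M.presheaf.germ V x hx f)) (bijective_germ_frame hf hx))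
    (Matrix.of fun _ _ => c) (fun i => hc) (by simpa [Matrix.det_fin_one] using hc0)
  simpa [Matrix.det_fin_one] using h

/-- The data at a point. -/
theorem local_data {n : ℕ} {E L P : X.Modules} (φ : Coh.structureModule X ⟶ P) (K : ℕ)
    (hη : genericPoint X ∈ CohB1.genLocus P φ)
    (s : Fin n → Γ(E, CohB1.genLocus P φ)) (σ : Γ(L, CohB1.genLocus P φ))
    (hσ : L.presheaf.germ (CohB1.genLocus P φ) (genericPoint X) hη σ ≠ 0)
    (t : Fin n → Γ(tw E P K, ⊤))
    (ht : ∀ i, rs (tw E P K) le_top (t i) = it (secOf φ) (CohB1.genLocus P φ) (s i) K)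
    (τ : Γ(tw L P K, ⊤)) (hτ : rs (tw L P K) le_top τ = it (secOf φ) (CohB1.genLocus P φ) σ K)
    (x : X) [Ring.KrullDimLE 1 (X.presheaf.stalk x)]
    {V : X.Opens} (hx : x ∈ V) (hηV : genericPoint X ∈ V) (e : Fin n → Γ(E, V))
    (he : ∀ y (hy : y ∈ V), Function.Bijective
      fun a : Fin n → X.presheaf.stalk y => ∑ j, a j • E.presheaf.germ V y hy (e j))
    (ε : Γ(L, V)) (hε : IsFrame L V ε) (p : Γ(P, V)) (hp : IsFrame P V p)
    (hdet : ∀ S : Matrix (Fin n) (Fin n) (X.presheaf.stalk (genericPoint X)),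
      (∀ i, E.presheaf.germ (CohB1.genLocus P φ) (genericPoint X) hη (s i) =
        ∑ j, S i j • E.presheaf.germ V (genericPoint X) hηV (e j)) →
      L.presheaf.germ (CohB1.genLocus P φ) (genericPoint X) hη σ =
        S.det • L.presheaf.germ V (genericPoint X) hηV ε) :
    (Function.Injective (st (desc fun i => Groth.L16.homOfSection _ (t i)) x) ∧
      Function.Injective (st (desc fun _ : Fin 1 => Groth.L16.homOfSection _ τ) x) ∧
      Function.Injective (st (desc fun _ : Fin 1 => Groth.L16.homOfSection _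
        (it (N := Coh.structureModule X) (secOf φ) ⊤ (Groth.L21.RR.oneSec X) K)) x)) ∧
    ∃ A c d : X.presheaf.stalk x, A ≠ 0 ∧ c ≠ 0 ∧ d ≠ 0 ∧ A * d = d ^ n * c ∧
      len x (cokernel (desc fun i => Groth.L16.homOfSection _ (t i))) = Ring.ord (X.presheaf.stalk x) A ∧
      len x (cokernel (desc fun _ : Fin 1 => Groth.L16.homOfSection _ τ)) = Ring.ord (X.presheaf.stalk x) c ∧
      len x (cokernel (desc fun _ : Fin 1 => Groth.L16.homOfSection _
        (it (N := Coh.structureModule X) (secOf φ) ⊤ (Groth.L21.RR.oneSec X) K))) =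
        Ring.ord (X.presheaf.stalk x) d := by
  classical
  obtain ⟨a, ha⟩ := hp.exists_coeff le_rfl (rs P le_top (secOf φ))
  rw [rs_self] at ha
  have hb : Groth.L17.LocBases.IsBasis (O := X.sheaf) (tw E P K) (fun j => fr (e j) p K) :=
    Groth.L17.PullBasis.isBasis_of_stalk (tw E P K) (fun j => fr (e j) p K) fun y hy => by
      have h1 := (twEquiv E P hp hy K).bijective.comp (he y hy)
      refine (congrArg Function.Bijective (funext fun r => ?_)).mp h1
      simp only [Function.comp_apply, map_sum, map_smul, twEquiv_germ]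
      rfl
  choose A₀ hA using fun i => (hb V (𝟙 V)).2 (rs (tw E P K) le_top (t i))
  let A : Fin n → Fin n → Γ(X, V) := A₀
  have hAy : ∀ (i : Fin n) (y : X) (hy : y ∈ V), (tw E P K).presheaf.germ ⊤ y trivial (t i) =
      ∑ j, X.presheaf.germ V y hy (A i j) • (tw E P K).presheaf.germ V y hy (fr (e j) p K) := fun i y hy => by
    rw [← germ_rs (M := tw E P K) (le_top : V ≤ ⊤) hy (t i), ← hA i]
    exact Groth.L17.PullBasis.germ_res_sum (tw E P K) (fun j => fr (e j) p K) y hy (𝟙 V) (A₀ i)
  obtain ⟨c, hc⟩ := (isFrame_fr hε hp K).exists_coeff le_rfl (rs (tw L P K) le_top τ)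
  rw [rs_self] at hc
  have hcy : ∀ (y : X) (hy : y ∈ V), (tw L P K).presheaf.germ ⊤ y trivial τ =
      X.presheaf.germ V y hy c • (tw L P K).presheaf.germ V y hy (fr ε p K) := fun y hy => by
    rw [← germ_rs (M := tw L P K) (le_top : V ≤ ⊤) hy τ, ← hc, germ_smul]
  let u := it (N := Coh.structureModule X) (secOf φ) ⊤ (Groth.L21.RR.oneSec X) K
  let one' : Γ(Coh.structureModule X, V) := rs _ le_top (Groth.L21.RR.oneSec X)
  have hone : IsFrame (Coh.structureModule X) V one' := Groth.L21.RR.isFrame_oneSec.mono le_top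
  have hu : rs (tw (Coh.structureModule X) P K) (le_top : V ≤ ⊤) u = a ^ K • fr one' p K := by
    rw [it_rs]
    exact it_eq_smul_fr (secOf φ) ha one' K
  have hdy : ∀ (y : X) (hy : y ∈ V), (tw (Coh.structureModule X) P K).presheaf.germ ⊤ y trivial u =
      X.presheaf.germ V y hy (a ^ K) • (tw (Coh.structureModule X) P K).presheaf.germ V y hy (fr one' p K) :=
    fun y hy => by rw [← germ_rs (M := tw (Coh.structureModule X) P K) (le_top : V ≤ ⊤) hy u, hu, germ_smul]
  -- at the generic point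
  let g : Γ(X, V) →+* X.presheaf.stalk (genericPoint X) := (X.presheaf.germ V (genericPoint X) hηV).hom
  let V' := V ⊓ (CohB1.genLocus P φ)
  have hV' : (genericPoint X) ∈ V' := ⟨hηV, hη⟩
  let p' : Γ(P, V') := rs P inf_le_left p
  have hp' : IsFrame P V' p' := hp.mono _
  let a' : Γ(X, V') := ro (inf_le_left : V' ≤ V) a
  have ha' : a' • p' = rs P le_top (secOf φ) := by rw [← rs_smul, ha, rs_rs]
  have haK : X.presheaf.germ V' (genericPoint X) hV' (a' ^ K) = g (a ^ K) := by
    rw [map_pow, map_pow]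
    exact congrArg (· ^ K) (X.presheaf.germ_res_apply _ (genericPoint X) hV' a)
  have hit : ∀ (N : X.Modules) (m : Γ(N, (CohB1.genLocus P φ))) (z : Γ(tw N P K, ⊤)),
      rs (tw N P K) le_top z = it (secOf φ) (CohB1.genLocus P φ) m K → (tw N P K).presheaf.germ ⊤ (genericPoint X) trivial z =
        g (a ^ K) • twEquiv N P hp' hV' K (N.presheaf.germ (CohB1.genLocus P φ) (genericPoint X) hη m) := by
    intro N m z hz
    have hz' : rs (tw N P K) (le_top : V' ≤ ⊤) z = a' ^ K • fr (rs N (inf_le_right : V' ≤ (CohB1.genLocus P φ)) m) p' K := by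
      rw [← rs_rs (tw N P K) (le_top : (CohB1.genLocus P φ) ≤ ⊤) (inf_le_right : V' ≤ (CohB1.genLocus P φ)) z, hz, it_rs,
        it_eq_smul_fr (secOf φ) ha']
    rw [← germ_rs (M := tw N P K) (le_top : V' ≤ ⊤) hV' z, hz', germ_smul, haK,
      ← twEquiv_germ N P hp' hV', germ_rs]
  have hfr : ∀ (N : X.Modules) (m : Γ(N, V)), (tw N P K).presheaf.germ V (genericPoint X) hηV (fr m p K) =
      twEquiv N P hp' hV' K (N.presheaf.germ V (genericPoint X) hηV m) := by
    intro N m
    rw [← germ_rs (M := tw N P K) (inf_le_left : V' ≤ V) hV', Groth.L22.CurveAmple.fr_rs,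
      ← twEquiv_germ N P hp' hV', germ_rs]
  choose S hS using fun i => (he (genericPoint X) hηV).2 (E.presheaf.germ (CohB1.genLocus P φ) (genericPoint X) hη (s i))
  have hσS := hdet (Matrix.of S) fun i => (hS i).symm
  have hAη : (Matrix.of fun i j => g (A i j)) = g (a ^ K) • Matrix.of S := by
    refine funext fun i => (he (genericPoint X) hηV).1 ((twEquiv E P hp' hV' K).injective ?_)
    have h1 := hit E (s i) (t i) (ht i)
    rw [hAy i (genericPoint X) hηV, ← hS i] at h1
    simp only [hfr] at h1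
    simp only [map_sum, map_smul, Matrix.smul_apply, Pi.smul_apply, Matrix.of_apply, smul_eq_mul, mul_smul,
      ← Finset.smul_sum] at h1 ⊢
    exact h1
  have hcη : g c = g (a ^ K) * (Matrix.of S).det := by
    have h1 := hit L σ τ hτ
    rw [hcy (genericPoint X) hηV, hfr, hσS, map_smul, smul_smul] at h1
    exact (bijective_germ_frame hε hηV).1 ((twEquiv L P hp' hV' K).injective (by
      simpa only [map_smul] using h1))
  have hdetA : g (Matrix.det (Matrix.of A)) = g (a ^ K) ^ n * (Matrix.of S).det := by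
    rw [RingHom.map_det]
    show (Matrix.of fun i j => g (A i j)).det = _
    rw [hAη, Matrix.det_smul, Fintype.card_fin]
  have hginj : Function.Injective g := germ_injective_of_isIntegral X (genericPoint X) hηV
  have hid : Matrix.det (Matrix.of A) * a ^ K = (a ^ K) ^ n * c := hginj (by
    rw [map_mul, map_mul, map_pow g (a ^ K) n, hdetA, hcη]; ring)
  have haK0 : g (a ^ K) ≠ 0 := by
    rw [map_pow]
    refine pow_ne_zero _ fun h0 => ?_
    have hmem : (genericPoint X) ∈ X.basicOpen a := by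
      rw [← genLocus_inf_eq φ hp ha]
      exact ⟨hη, hηV⟩
    exact not_isUnit_zero (h0 ▸ (X.mem_basicOpen a (genericPoint X) hηV).1 hmem)
  have hS0 : (Matrix.of S).det ≠ 0 := fun h => hσ (by rw [hσS, h, zero_smul])
  have hA0 : g (Matrix.det (Matrix.of A)) ≠ 0 := by
    rw [hdetA]; exact mul_ne_zero (pow_ne_zero _ haK0) hS0
  have hc0 : g c ≠ 0 := by rw [hcη]; exact mul_ne_zero haK0 hS0
  let G₁ : Γ(X, V) →+* X.presheaf.stalk x := (X.presheaf.germ V x hx).hom
  let l : (Fin n → X.presheaf.stalk x) ≃ₗ[X.presheaf.stalk x] (tw E P K).presheaf.stalk x :=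
    (LinearEquiv.ofBijective (Fintype.linearCombination (X.presheaf.stalk x)
      fun j => E.presheaf.germ V x hx (e j)) (he x hx)) ≪≫ₗ twEquiv E P hp hx K
  have hdA : G₁ (Matrix.det (Matrix.of A)) = (Matrix.of fun i j => G₁ (A i j)).det := RingHom.map_det _ _
  obtain ⟨iA, lA⟩ := desc_facts x (fun i => Groth.L16.homOfSection _ (t i)) l
    (Matrix.of fun i j => G₁ (A i j)) (fun i => by
      rw [st_homOfSection_one, hAy i x hx]
      show _ = twEquiv E P hp hx K
        (Fintype.linearCombination (X.presheaf.stalk x) (fun j => E.presheaf.germ V x hx (e j)) fun j => G₁ (A i j))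
      simp only [Fintype.linearCombination_apply, map_sum, map_smul, twEquiv_germ]
      rfl)
    (hdA ▸ germ_ne_zero hx hηV hA0)
  obtain ⟨ic, lc⟩ := frame_facts x (Groth.L16.homOfSection _ τ) hx (isFrame_fr hε hp K) (G₁ c)
    (by rw [st_homOfSection_one, hcy x hx]) (germ_ne_zero hx hηV hc0)
  obtain ⟨id', ld⟩ := frame_facts x (Groth.L16.homOfSection _ u) hx (isFrame_fr hone hp K) (G₁ (a ^ K))
    (by rw [st_homOfSection_one, hdy x hx]) (germ_ne_zero hx hηV haK0)
  exact ⟨⟨iA, ic, id'⟩, G₁ (Matrix.det (Matrix.of A)), G₁ c, G₁ (a ^ K), germ_ne_zero hx hηV hA0,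
    germ_ne_zero hx hηV hc0, germ_ne_zero hx hηV haK0, by rw [← map_mul, hid, map_mul, map_pow],
    by rw [lA, hdA], lc, ld⟩

variable (k : Type u) [Field k] [X.Over (Spec (CommRingCat.of k))] [IsProper (X ↘ Spec (CommRingCat.of k))]

omit [IsIntegral X] [IsLocallyNoetherian X] in
theorem desc_euler {n : ℕ} {M : X.Modules} (hM : Coh.IsCoh M) (t : Fin n → (Coh.structureModule X ⟶ M))
    (hinj : ∀ x, Function.Injective (st (desc t) x))
    (h0 : ∀ x : X, ¬ IsClosed ({x} : Set X) → len x (cokernel (desc t)) = 0) :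
    Coh.IsCoh (cokernel (desc t)) ∧ (CohB1.support (cokernel (desc t))).Finite ∧
      Curv2.euler k X M = n * Curv2.euler k X (Coh.structureModule X) + Curv2.euler k X (cokernel (desc t)) := by
  haveI := Groth.L21.RR.isNoetherian_of_proper (X := X) k
  haveI : Mono (desc t) := (Groth.L21.Mod.mono_iff_stalk_injective _).2 hinj
  have hQ := (Groth.L16.CohKernel.isCoh_kernel_cokernel (isCoh_freeN n) hM (desc t)).2
  have hs : SuppClosed (cokernel (desc t)) := fun x hx => Module.length_eq_zero_iff.1 (h0 x hx)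
  have hS : (ShortComplex.mk (desc t) (cokernel.π _) (cokernel.condition _)).ShortExact :=
    { exact := ShortComplex.exact_cokernel _ }
  have key := Groth.L03.Euler.euler_add (k := k) hS (isCoh_freeN n) hM hQ
  change Curv2.euler k X M = Curv2.euler k X (freeN X n) + Curv2.euler k X (cokernel (desc t)) at key
  rw [euler_freeN] at key
  exact ⟨hQ, finite_support hQ hs, key⟩

omit [IsIntegral X] [IsLocallyNoetherian X] in
theorem isFinLocFreeOfRank_one_of_isInvertible {L : X.Modules} (hL : PicF.IsInvertible L) :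
    FlatMod.IsFinLocFreeOfRank 1 L :=
  Groth.L19.ProjBdl.isFinLocFreeOfRank_one_of_frames fun x => Groth.L18.Frame.exists_frame hL x

/-- On an integral curve the degree of a locally free module is that of its determinant. -/
theorem deg_eq_deg_of_det (hd : topologicalKrullDim X = 1) {n : ℕ} {E L : X.Modules}
    (hE : FlatMod.IsFinLocFreeOfRank n E) (hL : PicF.IsInvertible L) (W : X.Opens) (hW : genericPoint X ∈ W)
    (s : Fin n → Γ(E, W)) (σ : Γ(L, W)) (hσ : L.presheaf.germ W (genericPoint X) hW σ ≠ 0)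
    (hloc : ∀ x : X, ∃ (V : X.Opens) (e : Fin n → Γ(E, V)) (ε : Γ(L, V)), x ∈ V ∧
      (∀ y (hy : y ∈ V), Function.Bijective
        fun a : Fin n → X.presheaf.stalk y => ∑ j, a j • E.presheaf.germ V y hy (e j)) ∧
      IsFrame L V ε ∧ ∀ (hηV : genericPoint X ∈ V)
        (S : Matrix (Fin n) (Fin n) (X.presheaf.stalk (genericPoint X))),
        (∀ i, E.presheaf.germ W (genericPoint X) hW (s i) =
          ∑ j, S i j • E.presheaf.germ V (genericPoint X) hηV (e j)) →
        L.presheaf.germ W (genericPoint X) hW σ = S.det • L.presheaf.germ V (genericPoint X) hηV ε) :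
    Curv2.deg k X E n = Curv2.deg k X L 1 := by
  classical
  haveI := Groth.L21.RR.isNoetherian_of_proper (X := X) k
  haveI : X.IsSeparated := ⟨by rw [← terminal.comp_from (X ↘ Spec (CommRingCat.of k))]; infer_instance⟩
  haveI hkd : ∀ x : X, Ring.KrullDimLE 1 (X.presheaf.stalk x) := fun x =>
    Ring.krullDimLE_iff.2 ((Groth.L21.SmoothDescent.ringKrullDim_stalk_le x).trans hd.le)
  obtain ⟨L0, hL0⟩ := Groth.Agent.S1551.result X hd
  obtain ⟨P, φ, hP, hηG, hGW⟩ : ∃ (P : X.Modules) (φ : Coh.structureModule X ⟶ P), PicF.IsInvertible P ∧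
      genericPoint X ∈ CohB1.genLocus P φ ∧ CohB1.genLocus P φ ≤ W := by
    obtain ⟨m, φ, h1, h2, -⟩ := exists_affine_genLocus_subset hL0 W hW
    exact ⟨_, φ, isInvertible_tensorPow hL0.1 _, h1, h2⟩
  have hEq : Coh.IsQCoh E := Groth.L29.DC.PCQCoh.isQCoh_of_isFinLocFree (isFinLocFree_of_rank hE)
  have hL1 := isFinLocFreeOfRank_one_of_isInvertible hL
  have hLq : Coh.IsQCoh L := Groth.L21.Extend.isQCoh_of_isInvertible hL
  choose k₀ hk₀ using fun i => exists_extend_ge hP φ (rs E hGW (s i))
  obtain ⟨k₁, hk₁⟩ := exists_extend_ge hP φ (rs L hGW σ)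
  let K := max k₁ (Finset.univ.sup k₀)
  choose t ht using fun i => hk₀ i K ((Finset.le_sup (Finset.mem_univ i)).trans (le_max_right _ _))
  obtain ⟨τ, hτ⟩ := hk₁ K (le_max_left _ _)
  let u := it (N := Coh.structureModule X) (secOf φ) ⊤ (Groth.L21.RR.oneSec X) K
  let a := fun i => Groth.L16.homOfSection (tw E P K) (t i)
  let b := fun _ : Fin 1 => Groth.L16.homOfSection (tw L P K) τ
  let c := fun _ : Fin 1 => Groth.L16.homOfSection (tw (Coh.structureModule X) P K) u
  have key : ∀ x : X, (Function.Injective (st (desc a) x) ∧ Function.Injective (st (desc b) x) ∧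
      Function.Injective (st (desc c) x)) ∧ ∃ A C D : X.presheaf.stalk x, A ≠ 0 ∧ C ≠ 0 ∧ D ≠ 0 ∧
        A * D = D ^ n * C ∧ len x (cokernel (desc a)) = Ring.ord (X.presheaf.stalk x) A ∧
        len x (cokernel (desc b)) = Ring.ord (X.presheaf.stalk x) C ∧
        len x (cokernel (desc c)) = Ring.ord (X.presheaf.stalk x) D := by
    intro x
    obtain ⟨V, e, ε, hxV, he, hε, hdet⟩ := hloc x
    obtain ⟨V₂, p, hxV₂, hp⟩ := Groth.L18.Frame.exists_frame hP x
    have hηV : genericPoint X ∈ V ⊓ V₂ :=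
      ((genericPoint_spec X).specializes trivial).mem_open (V ⊓ V₂).2 (show x ∈ V ⊓ V₂ from ⟨hxV, hxV₂⟩)
    refine local_data φ K hηG (fun i => rs E hGW (s i)) (rs L hGW σ) (by rwa [germ_rs]) t ht τ hτ x
      (V := V ⊓ V₂) ⟨hxV, hxV₂⟩ hηV (fun j => rs E inf_le_left (e j)) (fun y hy => ?_) (rs L inf_le_left ε)
      (hε.mono _) (rs P inf_le_right p) (hp.mono _) (fun S hS => ?_)
    · simpa only [germ_rs] using he y hy.1
    · simp only [germ_rs] at hS ⊢
      exact hdet hηV.1 S hS
  choose hinj A C D hA hC hD hid hla hlb hlc using key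
  have hdomx : ∀ x : X, IsDomain (X.presheaf.stalk x) := fun x => inferInstance
  have hzero : ∀ x : X, ¬ IsClosed ({x} : Set X) → ∀ z : X.presheaf.stalk x, z ≠ 0 →
      Ring.ord (X.presheaf.stalk x) z = 0 := fun x hx z hz => by
    obtain ⟨w, hw⟩ := (Groth.L21.RR.stalk_isField hd.le hx).mul_inv_cancel hz
    exact Ring.ord_of_isUnit (IsUnit.of_mul_eq_one w hw)
  have hPK : PicF.IsInvertible (CohB1.tensorPow P K) := isInvertible_tensorPow hP K
  have hPc : Coh.IsCoh (CohB1.tensorPow P K) := Groth.L16.ProperFinite.isCoh_of_isInvertible hPK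
  have hEc : Coh.IsCoh (tw E P K) :=
    Groth.L16.CohSupport.isCoh_of_iso (twIso E P K).symm (isCoh_tensor_locFree hE hPc)
  have hLc : Coh.IsCoh (tw L P K) :=
    Groth.L16.CohSupport.isCoh_of_iso (twIso L P K).symm (isCoh_tensor_locFree hL1 hPc)
  have hOc : Coh.IsCoh (tw (Coh.structureModule X) P K) := by rw [tw_unit]; exact hPc
  obtain ⟨qa, fa, ea⟩ := desc_euler k hEc a (fun x => (hinj x).1) (fun x hx => by rw [hla, hzero x hx _ (hA x)])
  obtain ⟨qb, fb, eb⟩ := desc_euler k hLc b (fun x => (hinj x).2.1) (fun x hx => by rw [hlb, hzero x hx _ (hC x)])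
  obtain ⟨qc, fc, ec⟩ := desc_euler k hOc c (fun x => (hinj x).2.2) (fun x hx => by rw [hlc, hzero x hx _ (hD x)])
  let T := (fa.union (fb.union fc)).toFinset
  have hTc : ∀ y ∈ T, IsClosed ({y} : Set X) := by
    intro y hy
    by_contra hyc
    simp only [T, Set.Finite.mem_toFinset, Set.mem_union] at hy
    rcases hy with hy | hy | hy
    · exact (len_eq_zero_iff y _).1 (by rw [hla, hzero y hyc _ (hA y)]) hy
    · exact (len_eq_zero_iff y _).1 (by rw [hlb, hzero y hyc _ (hC y)]) hy
    · exact (len_eq_zero_iff y _).1 (by rw [hlc, hzero y hyc _ (hD y)]) hy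
  rw [euler_eq_sum_points k T hTc qa (fun y hy => by simp [T, hy])] at ea
  rw [euler_eq_sum_points k T hTc qb (fun y hy => by simp [T, hy])] at eb
  rw [euler_eq_sum_points k T hTc qc (fun y hy => by simp [T, hy])] at ec
  have e0 : Curv2.euler k X (CohB1.tensorPow P K) = Curv2.euler k X (tw (Coh.structureModule X) P K) := by
    rw [tw_unit]
  have hsum : (∑ y ∈ T, ((len y (cokernel (desc a))).toNat : ℤ) * ptEuler k y) +
      (∑ y ∈ T, ((len y (cokernel (desc c))).toNat : ℤ) * ptEuler k y) =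
      n * (∑ y ∈ T, ((len y (cokernel (desc c))).toNat : ℤ) * ptEuler k y) +
        ∑ y ∈ T, ((len y (cokernel (desc b))).toNat : ℤ) * ptEuler k y := by
    rw [Finset.mul_sum, ← Finset.sum_add_distrib, ← Finset.sum_add_distrib]
    refine Finset.sum_congr rfl fun y _ => ?_
    have hA' := mem_nonZeroDivisors_of_ne_zero (hA y)
    have hC' := mem_nonZeroDivisors_of_ne_zero (hC y)
    have hD' := mem_nonZeroDivisors_of_ne_zero (hD y)
    have h1 := congrArg (Ring.ord (X.presheaf.stalk y)) (hid y)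
    rw [Ring.ord_mul _ hD', Ring.ord_mul _ hC', Ring.ord_pow hD'] at h1
    rw [hla, hlb, hlc]
    have h2 := congrArg ENat.toNat h1
    rw [nsmul_eq_mul, ENat.toNat_add (Ring.ord_ne_top hA') (Ring.ord_ne_top hD'),
      ENat.toNat_add (WithTop.mul_ne_top (ENat.natCast_ne_top n) (Ring.ord_ne_top hD')) (Ring.ord_ne_top hC'),
      ENat.toNat_mul, ENat.toNat_natCast] at h2
    have h3 := congrArg (fun v : ℕ => (v : ℤ)) h2
    push_cast at h3
    linear_combination (ptEuler k y) * h3
  have hlen : len (genericPoint X) (CohB1.tensorPow P K) = 1 := by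
    obtain ⟨v, hv⟩ := Groth.L21.RR.exists_frame_stalk hPK (genericPoint X)
    show Module.length _ _ = 1
    rw [← (LinearEquiv.ofBijective (LinearMap.toSpanSingleton (X.presheaf.stalk (genericPoint X))
      ((CohB1.tensorPow P K).presheaf.stalk (genericPoint X)) v) hv).length_eq]
    letI : Field (X.presheaf.stalk (genericPoint X)) := inferInstanceAs (Field X.functionField)
    exact Module.length_eq_one_iff.2 inferInstance
  have hpE := phi_eq_of_integral k hd hE hPc
  have hpL := phi_eq_of_integral k hd hL1 hPc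
  rw [hlen, phi, ← Groth.L03.Euler.euler_iso (twIso E P K), e0, ea, ec] at hpE
  rw [hlen, phi, ← Groth.L03.Euler.euler_iso (twIso L P K), e0, eb, ec] at hpL
  simp only [ENat.toNat_one, Nat.cast_one, one_mul] at hpE hpL
  rw [← hpE, ← hpL]
  linear_combination hsum

end Groth.L22.CurveDeg.Det
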