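import Groth.Agent.L22.CurveDeg.Devissage
import Groth.Agent.L22.CurveDeg.Maps

/-!
Finite free modules: Euler characteristic and stalks of maps out of them.
-/

set_option autoImplicit false
set_option backward.isDefEq.respectTransparency false
universe u

open CategoryTheory CategoryTheory.Limits AlgebraicGeometry TopologicalSpace Opposite ZeroObject

noncomputable section

namespace Groth.L22.CurveDeg.Det

open Groth.L21.RR (st one)

variable {X : Scheme.{u}}

theorem st_comp {A B C : X.Modules} (f : A ⟶ B) (g : B ⟶ C) (x : X) (v : A.presheaf.stalk x) :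
    st (f ≫ g) x v = st g x (st f x v) := by
  simp only [st, Functor.map_comp]
  rfl

theorem st_id {A : X.Modules} (x : X) (v : A.presheaf.stalk x) : st (𝟙 A) x v = v := by
  simp only [st, CategoryTheory.Functor.map_id]
  rfl

theorem st_add {A B : X.Modules} (f g : A ⟶ B) (x : X) (v : A.presheaf.stalk x) :
    st (f + g) x v = st f x v + st g x v := by
  simp only [st, Functor.map_add]
  rfl

/-- `O^n`. -/
def freeN (X : Scheme.{u}) : ℕ → X.Modules
  | 0 => 0
  | n + 1 => freeN X n ⊞ Coh.structureModule X

/-- The map out of `O^n`. -/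
def desc {M : X.Modules} : ∀ {n : ℕ}, (Fin n → (Coh.structureModule X ⟶ M)) → (freeN X n ⟶ M)
  | 0, _ => 0
  | _ + 1, t => biprod.desc (desc (Fin.init t)) (t (Fin.last _))

theorem range_st_biprod_desc {A M : X.Modules} (f : A ⟶ M) (g : Coh.structureModule X ⟶ M) (x : X) :
    LinearMap.range (st (biprod.desc f g) x) =
      LinearMap.range (st f x) ⊔ Submodule.span (X.presheaf.stalk x) {st g x (one X x)} := by
  apply le_antisymm
  · rintro _ ⟨v, rfl⟩
    have hv : v = st (biprod.fst ≫ biprod.inl) x v + st (biprod.snd ≫ biprod.inr) x v := by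
      rw [← st_add, biprod.total, st_id]
    rw [hv, map_add]
    refine Submodule.add_mem_sup ?_ ?_
    · refine ⟨st biprod.fst x v, ?_⟩
      rw [← st_comp, ← st_comp, Category.assoc, biprod.inl_desc]
    · rw [← st_comp, Category.assoc, biprod.inr_desc, st_comp]
      obtain ⟨a, ha⟩ := (Groth.L21.RR.bijective_smul_one x).2 (st biprod.snd x v)
      rw [← ha]
      show st g x (a • one X x) ∈ _
      rw [map_smul]
      exact Submodule.smul_mem _ _ (Submodule.subset_span rfl)
  · refine sup_le ?_ ((Submodule.span_singleton_le_iff_mem _ _).2 ⟨st biprod.inr x (one X x), ?_⟩)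
    · rintro _ ⟨w, rfl⟩
      refine ⟨st biprod.inl x w, ?_⟩
      rw [← st_comp, biprod.inl_desc]
    · rw [← st_comp, biprod.inr_desc]

theorem range_st_desc {M : X.Modules} (x : X) : ∀ {n : ℕ} (t : Fin n → (Coh.structureModule X ⟶ M)),
    LinearMap.range (st (desc t) x) =
      Submodule.span (X.presheaf.stalk x) (Set.range fun i => st (t i) x (one X x))
  | 0, t => by
    rw [Set.range_eq_empty, Submodule.span_empty, LinearMap.range_eq_bot]
    ext v
    show st (0 : freeN X 0 ⟶ M) x v = 0
    simp only [st, Functor.map_zero]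
    rfl
  | n + 1, t => by
    show LinearMap.range (st (biprod.desc (desc (Fin.init t)) (t (Fin.last n))) x) = _
    refine (range_st_biprod_desc _ _ x).trans ?_
    rw [range_st_desc x (Fin.init t), ← Submodule.span_union]
    congr 1
    ext v
    constructor
    · rintro (⟨i, rfl⟩ | rfl)
      · exact ⟨i.castSucc, rfl⟩
      · exact ⟨Fin.last n, rfl⟩
    · rintro ⟨i, rfl⟩
      refine Fin.lastCases ?_ (fun j => ?_) i
      · exact Or.inr rfl
      · exact Or.inl ⟨j, rfl⟩

/-- The inclusions of `O^n`. -/
def inj : ∀ {n : ℕ}, Fin n → (Coh.structureModule X ⟶ freeN X n)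
  | 0, i => i.elim0
  | n + 1, i => Fin.lastCases (biprod.inr : Coh.structureModule X ⟶ freeN X n ⊞ Coh.structureModule X)
      (fun j => inj j ≫ (biprod.inl : freeN X n ⟶ freeN X n ⊞ Coh.structureModule X)) i

theorem inj_desc {M : X.Modules} : ∀ {n : ℕ} (t : Fin n → (Coh.structureModule X ⟶ M)) (i : Fin n),
    inj i ≫ desc t = t i
  | 0, _, i => i.elim0
  | n + 1, t, i => by
    refine Fin.lastCases ?_ (fun j => ?_) i
    · simp only [inj, Fin.lastCases_last]
      exact biprod.inr_desc _ _
    · simp only [inj, Fin.lastCases_castSucc]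
      refine (Category.assoc _ _ _).trans ?_
      rw [show biprod.inl ≫ desc t = desc (Fin.init t) from biprod.inl_desc _ _]
      exact inj_desc (Fin.init t) j

theorem desc_comp {M M' : X.Modules} (g : M ⟶ M') : ∀ {n : ℕ} (t : Fin n → (Coh.structureModule X ⟶ M)),
    desc t ≫ g = desc fun i => t i ≫ g
  | 0, _ => zero_comp
  | n + 1, t => by
    refine biprod.hom_ext' _ _ ?_ ?_
    · refine (biprod.inl_desc_assoc _ _ _).trans ((desc_comp g (Fin.init t)).trans ?_)
      exact (biprod.inl_desc _ _).symm
    · exact (biprod.inr_desc_assoc _ _ _).trans (biprod.inr_desc _ _).symm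

theorem desc_inj : ∀ n : ℕ, desc (inj (X := X) (n := n)) = 𝟙 (freeN X n)
  | 0 => (isZero_zero X.Modules).eq_of_src _ _
  | n + 1 => by
    refine biprod.hom_ext' _ _ ?_ ?_
    · refine (biprod.inl_desc _ _).trans (Eq.trans ?_ (Category.comp_id _).symm)
      have h : Fin.init (inj (X := X) (n := n + 1)) = fun j =>
          inj j ≫ (biprod.inl : freeN X n ⟶ freeN X n ⊞ Coh.structureModule X) := by
        funext j
        simp only [Fin.init, inj, Fin.lastCases_castSucc]
      rw [h]
      exact (desc_comp _ _).symm.trans (by rw [desc_inj n, Category.id_comp])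
    · refine (biprod.inr_desc _ _).trans (Eq.trans ?_ (Category.comp_id _).symm)
      simp only [inj, Fin.lastCases_last]

theorem isCoh_freeN [AlgebraicGeometry.IsNoetherian X] : ∀ n : ℕ, Coh.IsCoh (freeN X n)
  | 0 => Groth.L16.Devissage.isCoh_of_isZero (isZero_zero _)
  | n + 1 => Groth.L16.Devissage.isCoh_biprod (isCoh_freeN n) Groth.L16.CohClosedPush.isCoh_structure

theorem euler_freeN (k : Type u) [Field k] [X.Over (Spec (CommRingCat.of k))]
    [IsProper (X ↘ Spec (CommRingCat.of k))] : ∀ n : ℕ,
      Curv2.euler k X (freeN X n) = n * Curv2.euler k X (Coh.structureModule X)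
  | 0 => by
    rw [show freeN X 0 = (0 : X.Modules) from rfl, Groth.L03.Euler.euler_of_isZero (isZero_zero _)]
    simp
  | n + 1 => by
    haveI := Groth.L21.RR.isNoetherian_of_proper (X := X) k
    have hS := (ShortComplex.Splitting.ofHasBinaryBiproduct (freeN X n) (Coh.structureModule X)).shortExact
    have key := Groth.L03.Euler.euler_add (k := k) hS (isCoh_freeN n) (isCoh_freeN (n + 1))
      Groth.L16.CohClosedPush.isCoh_structure
    change Curv2.euler k X (freeN X (n + 1)) =
      Curv2.euler k X (freeN X n) + Curv2.euler k X (Coh.structureModule X) at key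
    rw [key, euler_freeN k n]
    push_cast
    ring

end Groth.L22.CurveDeg.Det
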