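import Groth.Agent.L22.CurveDeg.Devissage

/-!
Euler characteristics of coherent modules supported at finitely many closed points.
-/

set_option autoImplicit false
set_option backward.isDefEq.respectTransparency false
set_option linter.style.haveILetI false
universe u

open CategoryTheory CategoryTheory.Limits AlgebraicGeometry TopologicalSpace Opposite

noncomputable section

namespace Groth.L22.CurveDeg.Det

open Groth.L16.CohSupport (len len_add len_congr len_eq_zero_iff len_ne_top)
open Groth.L21.RR (SuppClosed)

variable {X : Scheme.{u}}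

theorem finite_support [AlgebraicGeometry.IsNoetherian X] {F : X.Modules} (hF : Coh.IsCoh F)
    (hs : SuppClosed F) : (CohB1.support F).Finite := by
  obtain ⟨S, hSf, hSc, hSi, hSu⟩ := NoetherianSpace.exists_finite_set_isClosed_irreducible
    (Groth.L16.CohSupport.isClosed_support F hF.2)
  rw [hSu]
  refine hSf.sUnion fun t ht => ?_
  obtain ⟨g, hg⟩ := QuasiSober.sober (hSi t ht) (hSc t ht)
  have hgc : IsClosed ({g} : Set X) := by
    by_contra h
    exact (show g ∈ CohB1.support F from hSu ▸ ⟨t, ht, hg.mem⟩) (hs g h)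
  rw [← hg.def, hgc.closure_eq]
  exact Set.finite_singleton g

variable (k : Type u) [Field k] [X.Over (Spec (CommRingCat.of k))] [IsProper (X ↘ Spec (CommRingCat.of k))]

/-- The Euler characteristic of the structure module of a point. -/
def ptEuler (y : X) : ℤ :=
  Curv2.euler k X ((Coh.push (Groth.L16.CohClosedPush.exists_integral y).choose_spec.choose).obj
    (Coh.structureModule _))

theorem euler_eq_sum_points (T : Finset X) (hT : ∀ y ∈ T, IsClosed ({y} : Set X)) {F : X.Modules}
    (hF : Coh.IsCoh F) (hs : CohB1.support F ⊆ (T : Set X)) :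
    Curv2.euler k X F = ∑ y ∈ T, ((len y F).toNat : ℤ) * ptEuler k y := by
  classical
  haveI := Groth.L21.RR.isNoetherian_of_proper (X := X) k
  let R : X.Modules → ℤ := fun F => ∑ y ∈ T, ((len y F).toNat : ℤ) * ptEuler k y
  let P : X.Modules → Prop := fun F => Curv2.euler k X F = R F
  have hTc : IsClosed (T : Set X) := by
    rw [← Set.biUnion_of_singleton (T : Set X)]
    exact T.finite_toSet.isClosed_biUnion hT
  have hne : ∀ {M : X.Modules}, Coh.IsCoh M → CohB1.support M ⊆ (T : Set X) → ∀ y ∈ T, len y M ≠ ⊤ :=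
    fun {M} hM hsM y _ => len_ne_top hM fun z hz hzy =>
      (Set.mem_singleton_iff.1 ((hT z (hsM hz)).closure_subset_iff.2 subset_rfl
        (specializes_iff_mem_closure.1 hzy))).symm
  refine Groth.L16.Devissage.devissage P hTc ?_ ?_ ?_ ?_ hF hs
  · rintro M N ⟨e⟩ hM
    show Curv2.euler k X N = R N
    rw [← Groth.L03.Euler.euler_iso e, show Curv2.euler k X M = R M from hM]
    exact Finset.sum_congr rfl fun y _ => by rw [len_congr e]
  · intro M hM
    show Curv2.euler k X M = R M
    rw [Groth.L03.Euler.euler_of_isZero hM]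
    refine (Finset.sum_eq_zero fun y _ => ?_).symm
    haveI : Subsingleton (M.presheaf.stalk y) :=
      (Groth.L00.Stk.F X y).map_isZero hM |> ModuleCat.subsingleton_of_isZero
    rw [show len y M = 0 from Module.length_eq_zero]
    simp
  · intro S hS h₁ h₂ h₃ hsupp
    have a := Groth.L03.Euler.euler_add (k := k) hS h₁ h₂ h₃
    obtain ⟨hs1, hs3⟩ := Groth.L16.Devissage.support_union hS
    have b : R S.X₂ = R S.X₁ + R S.X₃ := by
      simp only [R, ← Finset.sum_add_distrib]
      refine Finset.sum_congr rfl fun y hy => ?_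
      rw [len_add hS y, ENat.toNat_add (hne h₁ (hs1.trans hsupp) y hy) (hne h₃ (hs3.trans hsupp) y hy)]
      push_cast
      ring
    show (Curv2.euler k X S.X₁ = R S.X₁ → Curv2.euler k X S.X₂ = R S.X₂ → Curv2.euler k X S.X₃ = R S.X₃) ∧
      (Curv2.euler k X S.X₁ = R S.X₁ → Curv2.euler k X S.X₃ = R S.X₃ → Curv2.euler k X S.X₂ = R S.X₂) ∧
      (Curv2.euler k X S.X₂ = R S.X₂ → Curv2.euler k X S.X₃ = R S.X₃ → Curv2.euler k X S.X₁ = R S.X₁)
    refine ⟨?_, ?_, ?_⟩ <;> intros <;> omega
  · intro y hy
    let Z := (Groth.L16.CohClosedPush.exists_integral y).choose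
    let i : Z ⟶ X := (Groth.L16.CohClosedPush.exists_integral y).choose_spec.choose
    obtain ⟨hi, hZ, hgen, hrange⟩ := (Groth.L16.CohClosedPush.exists_integral y).choose_spec.choose_spec
    haveI : IsLocallyNoetherian Z := LocallyOfFiniteType.isLocallyNoetherian i
    let G₀ := (Coh.push i).obj (Coh.structureModule Z)
    have hG₀ : Coh.IsCoh G₀ := Groth.L16.CohClosedPush.isCoh_push i Groth.L16.CohClosedPush.isCoh_structure
    have hsG : CohB1.support G₀ ⊆ closure {y} :=
      (Groth.L16.CohClosedPush.support_push_subset i _).trans hrange.le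
    have hl : len y G₀ = 1 := by
      have h := Groth.L16.CohClosedPush.len_push_structure i
      rwa [hgen] at h
    refine ⟨G₀, hG₀, ?_, hsG, hl⟩
    show ptEuler k y = R G₀
    simp only [R]
    rw [Finset.sum_eq_single y, hl]
    · simp
    · intro z _ hzy
      have : len z G₀ = 0 := (len_eq_zero_iff z G₀).2 fun hmem =>
        hzy (Set.mem_singleton_iff.1 ((hT y hy).closure_eq.le (hsG hmem)))
      rw [this]
      simp
    · exact fun h => absurd hy h

end Groth.L22.CurveDeg.Det
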