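import Groth.Agent.L22.Cyc.OrdDet
import Mathlib.LinearAlgebra.ExteriorPower.Basic
import Mathlib.LinearAlgebra.Determinant
import Mathlib.LinearAlgebra.StdBasis

/-!
Top exterior products and cokernels of square matrices.
-/

set_option autoImplicit false
universe u v w

noncomputable section

namespace Groth.L22.CurveDeg.Det

open Matrix

variable {R : Type u} [CommRing R] {M : Type v} [AddCommGroup M] [Module R M] {n : ℕ}

/-- Linear combinations of `e` have wedge product `det • ∧ e`. -/
theorem wedge_linearCombination (S : Matrix (Fin n) (Fin n) R) (e : Fin n → M) :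
    exteriorPower.ιMulti R n (fun i => ∑ j, S i j • e j) = S.det • exteriorPower.ιMulti R n e := by
  let l : (Fin n → R) →ₗ[R] M := Fintype.linearCombination R e
  let g := (exteriorPower.ιMulti R n (M := M)).compLinearMap l
  let b := Pi.basisFun R (Fin n)
  have hl : ∀ i, l (b i) = e i := fun i => by
    simp [l, b, Fintype.linearCombination_apply_single]
  have h1 : g (fun i => S i) = exteriorPower.ιMulti R n (fun i => ∑ j, S i j • e j) := rfl
  have hb : ∀ f₁ f₂ : (Fin n → R) [⋀^Fin n]→ₗ[R] (⋀[R]^n M), f₁ b = f₂ b → f₁ = f₂ := fun f₁ f₂ h => by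
    refine Module.Basis.ext_alternating b fun v hv => ?_
    let σ : Equiv.Perm (Fin n) := Equiv.ofBijective v (Finite.injective_iff_bijective.1 hv)
    have hv' : (fun i => b (v i)) = b ∘ σ := rfl
    rw [hv', f₁.map_perm, f₂.map_perm, h]
  have h2 : g = (LinearMap.toSpanSingleton R _ (exteriorPower.ιMulti R n e)).compAlternatingMap b.det := by
    refine hb _ _ ?_
    simp only [g, LinearMap.compAlternatingMap_apply, LinearMap.toSpanSingleton_apply,
      AlternatingMap.compLinearMap_apply, b.det_self, one_smul]
    exact congrArg _ (funext hl)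
  rw [← h1, h2, LinearMap.compAlternatingMap_apply, LinearMap.toSpanSingleton_apply]
  congr 1
  rw [Module.Basis.det_apply, ← Matrix.det_transpose S]
  congr 1

/-- For a free module of rank `n` the top exterior power is free on the product of a basis. -/
theorem bijective_smul_wedge (e : Fin n → M)
    (he : Function.Bijective fun r : Fin n → R => ∑ i, r i • e i) :
    Function.Bijective fun a : R => a • exteriorPower.ιMulti R n e := by
  let lc : (Fin n → R) →ₗ[R] M := Fintype.linearCombination R e
  let l : (Fin n → R) ≃ₗ[R] M := LinearEquiv.ofBijective lc he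
  let D : M [⋀^Fin n]→ₗ[R] R := ((Pi.basisFun R (Fin n)).map l).det
  have hD : exteriorPower.alternatingMapLinearEquiv D (exteriorPower.ιMulti R n e) = 1 := by
    rw [exteriorPower.alternatingMapLinearEquiv_apply_ιMulti]
    have hbe : (e : Fin n → M) = (Pi.basisFun R (Fin n)).map l := funext fun i => by
      simp [l, lc, Fintype.linearCombination_apply_single]
    conv_lhs => rw [hbe]
    exact Module.Basis.det_self _
  refine ⟨fun a b hab => ?_, fun x => ?_⟩
  · have := congrArg (exteriorPower.alternatingMapLinearEquiv D) hab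
    simpa [hD] using this
  · have hx : x ∈ Submodule.span R (Set.range (exteriorPower.ιMulti R n (M := M))) := by
      rw [exteriorPower.ιMulti_span]; trivial
    induction hx using Submodule.span_induction with
    | mem y hy =>
      obtain ⟨v, rfl⟩ := hy
      choose S hS using fun i => he.2 (v i)
      refine ⟨Matrix.det (Matrix.of S), ?_⟩
      show _ • _ = _
      rw [← wedge_linearCombination]
      exact congrArg _ (funext hS)
    | zero => exact ⟨0, zero_smul _ _⟩
    | add y z _ _ hy hz =>
      obtain ⟨a, rfl⟩ := hy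
      obtain ⟨b, rfl⟩ := hz
      exact ⟨a + b, add_smul _ _ _⟩
    | smul r y _ hy =>
      obtain ⟨a, rfl⟩ := hy
      exact ⟨r * a, mul_smul _ _ _⟩

variable {A : Type u} [CommRing A] [IsDomain A] [IsNoetherianRing A] [IsLocalRing A] [Ring.KrullDimLE 1 A]
  {N : Type w} [AddCommGroup N] [Module A N]

/-- The colength of `n` elements of a free module of rank `n` is the order of the determinant. -/
theorem length_quotient_span (l : (Fin n → A) ≃ₗ[A] N) (τ : Fin n → N) (S : Matrix (Fin n) (Fin n) A)
    (hτ : ∀ i, τ i = l (S i)) (hS : S.det ≠ 0) :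
    Module.length A (N ⧸ Submodule.span A (Set.range τ)) = Ring.ord A S.det := by
  let N' : Matrix (ULift.{u} (Fin n)) (ULift.{u} (Fin n)) A := Sᵀ.submatrix Equiv.ulift Equiv.ulift
  have hdet : N'.det = S.det := by rw [Matrix.det_submatrix_equiv_self, det_transpose]
  have h := Groth.L22.OrdDet.colen_eq_ord_det N' (hdet ▸ hS)
  rw [hdet] at h
  rw [← h, Groth.L22.OrdDet.colen]
  let E : N ≃ₗ[A] (ULift.{u} (Fin n) → A) := l.symm.trans (LinearEquiv.funCongrLeft A A Equiv.ulift)
  refine (Submodule.Quotient.equiv _ _ E ?_).length_eq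
  rw [Submodule.map_span, ← Set.range_comp, Matrix.range_toLin']
  congr 1
  have hc : ∀ i : ULift.{u} (Fin n), E (τ i.down) = N'.col i := fun i => by
    show LinearEquiv.funCongrLeft A A Equiv.ulift (l.symm (τ i.down)) = N'.col i
    rw [hτ, LinearEquiv.symm_apply_apply]
    rfl
  ext v
  exact ⟨fun ⟨i, hi⟩ => ⟨ULift.up i, (hc _).symm.trans hi⟩, fun ⟨i, hi⟩ => ⟨i.down, (hc i).trans hi⟩⟩

end Groth.L22.CurveDeg.Det
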