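import Groth.Agent.L22.CurveDeg.Det.Free
import Groth.Agent.L22.CurveDeg.Det.Alg
import Groth.Agent.L22.CurveDeg.Det.Points

/-!
Maps out of finite free modules with nonzero determinant.
-/

set_option autoImplicit false
set_option backward.isDefEq.respectTransparency false
set_option linter.style.haveILetI false
universe u

open CategoryTheory CategoryTheory.Limits AlgebraicGeometry TopologicalSpace Opposite

noncomputable section

namespace Groth.L22.CurveDeg.Det

open Groth.L16.CohSupport (len len_eq_zero_iff)
open Groth.L21.RR (st one SuppClosed)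

variable {X : Scheme.{u}} [IsIntegral X] [IsLocallyNoetherian X]

theorem desc_facts (x : X) [Ring.KrullDimLE 1 (X.presheaf.stalk x)] {n : ℕ} {M : X.Modules}
    (t : Fin n → (Coh.structureModule X ⟶ M))
    (l : (Fin n → X.presheaf.stalk x) ≃ₗ[X.presheaf.stalk x] M.presheaf.stalk x)
    (S : Matrix (Fin n) (Fin n) (X.presheaf.stalk x)) (hS : ∀ i, st (t i) x (one X x) = l (S i))
    (hdet : S.det ≠ 0) :
    Function.Injective (st (desc t) x) ∧ len x (cokernel (desc t)) = Ring.ord (X.presheaf.stalk x) S.det := by
  refine ⟨?_, ?_⟩
  · let J := Fintype.linearCombination (X.presheaf.stalk x)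
      (fun i => st (inj (X := X) (n := n) i) x (one X x))
    have hJ : Function.Surjective J := by
      rw [← LinearMap.range_eq_top, Fintype.range_linearCombination, ← range_st_desc x (inj (X := X) (n := n)),
        desc_inj, LinearMap.range_eq_top]
      exact fun v => ⟨v, st_id x v⟩
    have hcomp : ∀ v, st (desc t) x (J v) = l (Matrix.vecMul v S) := fun v => by
      have h1 : Matrix.vecMul v S = ∑ i, v i • S i := by
        funext j
        simp [Matrix.vecMul, dotProduct, Finset.sum_apply]
      rw [h1, map_sum]
      simp only [J, Fintype.linearCombination_apply, map_sum, map_smul, ← st_comp, inj_desc, hS]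
    refine (injective_iff_map_eq_zero _).2 fun w hw => ?_
    obtain ⟨v, rfl⟩ := hJ w
    rw [hcomp, LinearEquiv.map_eq_zero_iff] at hw
    rw [Matrix.eq_zero_of_vecMul_eq_zero hdet hw, map_zero]
  · rw [← length_quotient_span l (fun i => st (t i) x (one X x)) S hS hdet, ← range_st_desc x t]
    exact (PreservesCokernel.iso (Groth.L00.Stk.F X x) (desc t) ≪≫
      ModuleCat.cokernelIsoRangeQuotient _).toLinearEquiv.length_eq

end Groth.L22.CurveDeg.Det
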